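import Groth.Agent.WeilClosedLib.Transporter
import Groth.Agent.WeilClosedLib.Equalizer

/-!
Finite presentation of transporters, centralisers and normalisers of essentially free subgroups.
-/

set_option autoImplicit false
set_option backward.isDefEq.respectTransparency false
set_option backward.isDefEq.respectTransparency.types false
set_option linter.style.haveILetI false

universe u

open CategoryTheory CategoryTheory.Limits MonoidalCategory CartesianMonoidalCategory MonObj GrpObj AlgebraicGeometry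
open Groth.Agent.WeilClosedLib

noncomputable section

namespace Groth.Agent.GenericGrp

variable {S : Scheme.{u}} {G X : Over S} [GrpObj G] [IsSeparated G.hom] [LocallyOfFiniteType G.hom] [QuasiCompact X.hom]

/-- Transporter of two morphisms. -/
theorem exists_transporter_hom (hX : SGA3x.IsEssentiallyFree X.hom) (u v : X ⟶ G) :
    ∃ (T : Over S) (t : T ⟶ G), IsClosedImmersion t.left ∧ LocallyOfFinitePresentation t.left ∧
      ∀ (S' : Over S) (g : S' ⟶ G), (∃ z : S' ⟶ T, z ≫ t = g) ↔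
        ∀ (S'' : Over S) (s : S'' ⟶ S') (x : S'' ⟶ X), (s ≫ g) * (x ≫ u) * (s ≫ g)⁻¹ = x ≫ v := by
  obtain ⟨E, jE, -, hcl, hlfp, hE⟩ := exists_immersion_equalizer
    (fst G X * (snd G X ≫ u) * (fst G X)⁻¹) (snd G X ≫ v)
  haveI := hcl inferInstance
  obtain ⟨T, t, ht, hT, hl⟩ := exists_closed_forall hX jE
  refine ⟨T, t, ht, hl inferInstance (hlfp inferInstance), fun S' g => (hT S' g).trans (forall₃_congr fun S'' s x => ?_)⟩
  rw [hE]
  simp [MonObj.comp_mul, GrpObj.comp_inv]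

variable [GrpObj X]

/-- Centraliser. -/
theorem exists_centralizer (hX : SGA3x.IsEssentiallyFree X.hom) (h : X ⟶ G) :
    ∃ (Z : Over S) (_ : GrpObj Z) (z : Z ⟶ G), Red.IsCentralizerOf h z ∧ IsClosedImmersion z.left ∧
      LocallyOfFinitePresentation z.left := by
  obtain ⟨T, t, ht, hfp, hT⟩ := exists_transporter_hom hX h h
  let Q : ∀ (S' : Over S), (S' ⟶ G) → Prop := fun S' g => ∀ (S'' : Over S) (s : S'' ⟶ S') (x : S'' ⟶ X),
      Commute (s ≫ g) (x ≫ h)
  have key : ∀ (S' : Over S) (g : S' ⟶ G), (∃ z : S' ⟶ T, z ≫ t = g) ↔ Q S' g := fun S' g =>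
    (hT S' g).trans (forall₃_congr fun S'' s x => mul_inv_eq_iff_eq_mul)
  haveI : Mono t := ⟨fun a b e => Over.OverMorphism.ext ((cancel_mono t.left).1 (congrArg CommaMorphism.left e))⟩
  obtain ⟨str, hmon⟩ := exists_grpObj_of_closed t
    ((key _ η[G]).2 fun S'' s x => by
      rw [show s ≫ η[G] = 1 by rw [Hom.one_def, toUnit_unique s (toUnit _)]]
      exact Commute.one_left _)
    (fun W a b => (key W ((a ≫ t) * (b ≫ t))).2 fun S'' s x => by
      rw [MonObj.comp_mul]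
      exact Commute.mul_left ((key W _).1 ⟨a, rfl⟩ S'' s x) ((key W _).1 ⟨b, rfl⟩ S'' s x))
    (fun W a => (key W (a ≫ t)⁻¹).2 fun S'' s x => by
      rw [GrpObj.comp_inv]
      exact Commute.inv_left ((key W _).1 ⟨a, rfl⟩ S'' s x))
  exact ⟨T, str, t, ⟨hmon, inferInstance, key⟩, ht, hfp⟩

/-- Normaliser. -/
theorem exists_normalizer (hX : SGA3x.IsEssentiallyFree X.hom) (h : X ⟶ G) [IsClosedImmersion h.left]
    [LocallyOfFinitePresentation h.left] :
    ∃ (N : Over S) (_ : GrpObj N) (n : N ⟶ G), Red.IsNormalizerOf h n ∧ IsClosedImmersion n.left ∧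
      LocallyOfFinitePresentation n.left := by
  obtain ⟨N, str, n, hn, hN⟩ := WeilClosedLib.exists_normalizer hX h
  letI := str
  obtain ⟨T₁, t₁, ht₁, hT₁, hl₁⟩ := exists_transporter_into hX h h
  obtain ⟨E₂, jE₂, hjE₂, hlE₂, hE₂⟩ := exists_closed_preimage ((fst G X)⁻¹ * (snd G X ≫ h) * fst G X) h
  obtain ⟨T₂, t₂, ht₂, hT₂, hl₂⟩ := exists_closed_forall hX jE₂
  obtain ⟨E, j, hj, hlj, hE⟩ := exists_closed_preimage t₁ t₂
  haveI := hl₁ inferInstance inferInstance
  haveI := hlj (hl₂ inferInstance (hlE₂ inferInstance))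
  haveI := hN.2.1
  have key : ∀ (S' : Over S) (g : S' ⟶ G), (∃ z : S' ⟶ E, z ≫ j ≫ t₁ = g) ↔ ∃ z : S' ⟶ N, z ≫ n = g := by
    intro S' g
    rw [hN.2.2]
    constructor
    · rintro ⟨z, rfl⟩ X' x a
      obtain ⟨m, hm⟩ := (hE S' (z ≫ j)).1 ⟨z, rfl⟩
      refine ⟨(hT₁ S' _).1 ⟨z ≫ j, by rw [Category.assoc]⟩ X' x a, ?_⟩
      have := (hT₂ S' (z ≫ j ≫ t₁)).1 ⟨m, by rw [← Category.assoc, ← hm]⟩ X' x a
      rw [hE₂] at this
      simpa [MonObj.comp_mul, GrpObj.comp_inv] using this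
    · intro hg
      obtain ⟨z₁, rfl⟩ := (hT₁ S' g).2 fun X' x a => (hg X' x a).1
      obtain ⟨z₂, hz₂⟩ := (hT₂ S' (z₁ ≫ t₁)).2 fun X' x a => by
        rw [hE₂]
        simpa [MonObj.comp_mul, GrpObj.comp_inv] using (hg X' x a).2
      obtain ⟨l, hl⟩ := (hE S' z₁).2 ⟨z₂, hz₂.symm⟩
      exact ⟨l, by rw [reassoc_of% hl]⟩
  obtain ⟨a, ha⟩ := (key N n).2 ⟨𝟙 N, Category.id_comp _⟩
  obtain ⟨b, hb⟩ := (key E (j ≫ t₁)).1 ⟨𝟙 E, Category.id_comp _⟩
  haveI : Mono (j.left ≫ t₁.left) := inferInstance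
  haveI : Mono (j ≫ t₁) := (Over.forget S).mono_of_mono_map (inferInstanceAs (Mono (j.left ≫ t₁.left)))
  haveI : IsIso a := ⟨b, by rw [← cancel_mono n, Category.assoc, hb, ha, Category.id_comp],
    by rw [← cancel_mono (j ≫ t₁), Category.assoc, ha, hb, Category.id_comp]⟩
  haveI : IsIso a.left := (Over.forget _).map_isIso a
  refine ⟨N, str, n, hN, hn, ?_⟩
  rw [← ha, Over.comp_left, Over.comp_left]
  infer_instance

end Groth.Agent.GenericGrp

end
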