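import Groth.Agent.GenericGrp.Generic
import Groth.Agent.GenericGrp.EssFree
import Groth.Agent.GrpSchLib.Component
import Groth.Agent.S3036
import Groth.Agent.S0346
import Groth.Prelude.Def_Red2

/-!
Centralisers, normalisers and transporters over a nonempty open of an integral base.
-/

set_option autoImplicit false
set_option backward.isDefEq.respectTransparency false
set_option backward.isDefEq.respectTransparency.types false
set_option linter.style.haveILetI false

universe u

open CategoryTheory CategoryTheory.Limits MonoidalCategory CartesianMonoidalCategory MonObj GrpObj AlgebraicGeometry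

noncomputable section

namespace Groth.Agent.GenericGrp

variable {S : Scheme.{u}}

theorem unit_bc {T : Scheme.{u}} (ψ : T ⟶ S) (G : Over S) [GrpObj G] :
    ∃ e : 𝟙_ (Over T) ⟶ (Over.pullback ψ).obj (𝟙_ (Over S)), IsIso e.left ∧
      η[Red.bc ψ G].left = e.left ≫ ((Over.pullback ψ).map η[G]).left :=
  ⟨Functor.LaxMonoidal.ε (Over.pullback ψ), (Over.forget T).map_isIso _, by
    rw [← Over.comp_left]; exact congrArg _ (Functor.obj.η_def _)⟩

theorem isClosedImmersion_bc_unit_iff {T : Scheme.{u}} (ψ : T ⟶ S) (G : Over S) [GrpObj G] :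
    IsClosedImmersion ((Over.pullback ψ).map η[G]).left ↔ IsClosedImmersion η[Red.bc ψ G].left := by
  obtain ⟨e, he, h⟩ := unit_bc ψ G
  haveI := he
  rw [h]
  exact (MorphismProperty.cancel_left_of_respectsIso @IsClosedImmersion _ _).symm

variable [IsIntegral S]

theorem exists_open_isSeparated (G : Over S) [GrpObj G] [LocallyOfFiniteType G.hom] [QuasiCompact G.hom]
    [QuasiSeparated G.hom] :
    ∃ U : S.Opens, (U : Set S).Nonempty ∧ ∀ {T : Scheme.{u}} (v : T ⟶ U.toScheme),
      IsSeparated (Red.bc (v ≫ U.ι) G).hom := by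
  haveI : QuasiCompact (𝟙_ (Over S)).hom := inferInstanceAs (QuasiCompact (𝟙 S))
  haveI : QuasiSeparated (𝟙_ (Over S)).hom := inferInstanceAs (QuasiSeparated (𝟙 S))
  haveI : LocallyOfFiniteType (η[G].left ≫ G.hom) := by
    rw [Over.w η[G]]; exact inferInstanceAs (LocallyOfFiniteType (𝟙 S))
  haveI : LocallyOfFiniteType η[G].left := locallyOfFiniteType_of_comp η[G].left G.hom
  obtain ⟨U, hU, h⟩ := exists_open_closedImmersion η[G] fun K _ ψ => by
    haveI : LocallyOfFiniteType (Red.bc ψ G).hom := MorphismProperty.pullback_snd _ _ ‹_›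
    exact (isClosedImmersion_bc_unit_iff ψ G).2 (GrpSchLib.isClosedImmersion_unit (G := Red.bc ψ G))
  exact ⟨U, hU, fun {T} v => (S0346.result T (Red.bc (v ≫ U.ι) G)).1.2
    ((isClosedImmersion_bc_unit_iff _ G).1 (h v))⟩

theorem nonempty_inf (U V : S.Opens) (hU : (U : Set S).Nonempty) (hV : (V : Set S).Nonempty) :
    ((U ⊓ V : S.Opens) : Set S).Nonempty :=
  nonempty_preirreducible_inter U.2 V.2 hU hV

theorem exists_transporter_generic (G Y : Over S) [GrpObj G] [LocallyOfFinitePresentation G.hom] [QuasiCompact G.hom]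
    [QuasiSeparated G.hom] [LocallyOfFinitePresentation Y.hom] [QuasiCompact Y.hom] (u v : Y ⟶ G) :
    ∃ U : S.Opens, (U : Set S).Nonempty ∧
      ∃ (T : Over (U : Scheme.{u})) (t : T ⟶ Red.bc U.ι G), IsClosedImmersion t.left ∧
        LocallyOfFinitePresentation T.hom ∧ QuasiCompact T.hom ∧ QuasiSeparated T.hom ∧
        ∀ (S' : Over (U : Scheme.{u})) (g : S' ⟶ Red.bc U.ι G), (∃ z : S' ⟶ T, z ≫ t = g) ↔
          ∀ (S'' : Over (U : Scheme.{u})) (s : S'' ⟶ S') (y : S'' ⟶ Red.bc U.ι Y),
            (s ≫ g) * (y ≫ (Over.pullback U.ι).map u) * (s ≫ g)⁻¹ = y ≫ (Over.pullback U.ι).map v := by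
  obtain ⟨U₁, hU₁, h₁⟩ := exists_open_isSeparated G
  obtain ⟨U₂, hU₂, h₂⟩ := exists_open_essFree Y.hom
  let U := U₁ ⊓ U₂
  refine ⟨U, nonempty_inf U₁ U₂ hU₁ hU₂, ?_⟩
  haveI hsep : IsSeparated (Red.bc U.ι G).hom := by
    have h := h₁ (S.homOfLE (inf_le_left : U ≤ U₁)); rwa [Scheme.homOfLE_ι] at h
  have hfree : SGA3x.IsEssentiallyFree (Red.bc U.ι Y).hom := by
    have h := h₂ (S.homOfLE (inf_le_right : U ≤ U₂)); rwa [Scheme.homOfLE_ι] at h
  haveI : LocallyOfFinitePresentation (Red.bc U.ι G).hom := MorphismProperty.pullback_snd _ _ ‹_›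
  haveI : QuasiCompact (Red.bc U.ι G).hom := MorphismProperty.pullback_snd _ _ ‹_›
  haveI : QuasiCompact (Red.bc U.ι Y).hom := MorphismProperty.pullback_snd _ _ ‹_›
  obtain ⟨T, t, ht, hfp, hT⟩ := exists_transporter_hom hfree ((Over.pullback U.ι).map u) ((Over.pullback U.ι).map v)
  exact ⟨T, t, ht, by rw [← Over.w t]; infer_instance, by rw [← Over.w t]; infer_instance,
    by rw [← Over.w t]; infer_instance, hT⟩

theorem exists_centralizer_generic (G H : Over S)
    [GrpObj G] [GrpObj H] [LocallyOfFinitePresentation G.hom] [QuasiCompact G.hom] [QuasiSeparated G.hom]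
    [LocallyOfFinitePresentation H.hom] [QuasiCompact H.hom] [QuasiSeparated H.hom]
    (i : H ⟶ G) [IsMonHom i] [Mono i] [QuasiCompact i.left] :
    ∃ U : S.Opens, (U : Set S).Nonempty ∧ IsClosedImmersion ((Over.pullback U.ι).map i).left ∧
      ∃ (C N : Over (U : Scheme.{u})) (_ : GrpObj C) (_ : GrpObj N) (c : C ⟶ Red.bc U.ι G) (n : N ⟶ Red.bc U.ι G),
        Red.IsCentralizerOf ((Over.pullback U.ι).map i) c ∧ IsClosedImmersion c.left ∧
          LocallyOfFinitePresentation C.hom ∧ QuasiCompact C.hom ∧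
        Red.IsNormalizerOf ((Over.pullback U.ι).map i) n ∧ IsClosedImmersion n.left ∧
          LocallyOfFinitePresentation N.hom ∧ QuasiCompact N.hom := by
  haveI : LocallyOfFinitePresentation (i.left ≫ G.hom) := by rw [Over.w]; infer_instance
  haveI : LocallyOfFinitePresentation i.left := FlatLocus.locallyOfFinitePresentation_of_comp i.left G.hom
  obtain ⟨U₁, hU₁, h₁⟩ := exists_open_isSeparated G
  obtain ⟨U₂, hU₂, h₂⟩ := exists_open_essFree H.hom
  obtain ⟨U₃, hU₃, h₃⟩ := exists_open_closedImmersion i fun K _ ψ => by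
    haveI : LocallyOfFiniteType (Red.bc ψ G).hom := MorphismProperty.pullback_snd _ _ inferInstance
    haveI : LocallyOfFiniteType (Red.bc ψ H).hom := MorphismProperty.pullback_snd _ _ inferInstance
    haveI : IsMonHom ((Over.pullback ψ).map i) := inferInstance
    haveI : QuasiCompact ((Over.pullback ψ).map i).left :=
      MorphismProperty.of_isPullback (isPullback_overMap i ψ) ‹_›
    exact S3036.result K (Red.bc ψ H) (Red.bc ψ G) ((Over.pullback ψ).map i)
  let U := U₁ ⊓ U₂ ⊓ U₃
  refine ⟨U, nonempty_inf _ U₃ (nonempty_inf U₁ U₂ hU₁ hU₂) hU₃, ?_⟩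
  haveI hsep : IsSeparated (Red.bc U.ι G).hom := by
    have h := h₁ (S.homOfLE (inf_le_left.trans inf_le_left : U ≤ U₁)); rwa [Scheme.homOfLE_ι] at h
  have hfree : SGA3x.IsEssentiallyFree (Red.bc U.ι H).hom := by
    have h := h₂ (S.homOfLE (inf_le_left.trans inf_le_right : U ≤ U₂)); rwa [Scheme.homOfLE_ι] at h
  haveI hcl : IsClosedImmersion ((Over.pullback U.ι).map i).left := by
    have h := h₃ (S.homOfLE (inf_le_right : U ≤ U₃)); rwa [Scheme.homOfLE_ι] at h
  haveI : LocallyOfFinitePresentation (Red.bc U.ι G).hom := MorphismProperty.pullback_snd _ _ ‹_›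
  haveI : QuasiCompact (Red.bc U.ι G).hom := MorphismProperty.pullback_snd _ _ ‹_›
  haveI : QuasiCompact (Red.bc U.ι H).hom := MorphismProperty.pullback_snd _ _ ‹_›
  haveI : LocallyOfFinitePresentation ((Over.pullback U.ι).map i).left :=
    MorphismProperty.of_isPullback (isPullback_overMap i U.ι) ‹_›
  obtain ⟨C, sC, c, hC, hcc, hcfp⟩ := exists_centralizer hfree ((Over.pullback U.ι).map i)
  obtain ⟨N, sN, n, hN, hnc, hnfp⟩ := exists_normalizer hfree ((Over.pullback U.ι).map i)
  exact ⟨hcl, C, N, sC, sN, c, n, hC, hcc, by rw [← Over.w c]; infer_instance, by rw [← Over.w c]; infer_instance,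
    hN, hnc, by rw [← Over.w n]; infer_instance, by rw [← Over.w n]; infer_instance⟩

end Groth.Agent.GenericGrp

end
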