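import Groth.Agent.GenericGrp.Spread
import Groth.Agent.WeilClosedLib.EssFree
import Groth.Agent.WeilClosedLib.MultType
import Groth.Agent.WeilClosedLib.Transporter
import Groth.Agent.SmoothWeil.Local
import Groth.Agent.SmoothGrp.Chart
import Groth.Agent.S0389

/-!
Generic closed immersions and generic essential freeness over an integral scheme.
-/

set_option autoImplicit false
set_option backward.isDefEq.respectTransparency false
set_option backward.isDefEq.respectTransparency.types false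
set_option linter.style.haveILetI false

universe u

open CategoryTheory CategoryTheory.Limits AlgebraicGeometry TensorProduct
open Groth.Agent.WeilClosedLib

noncomputable section

namespace Groth.Agent.GenericGrp

theorem isPullback_overMap {S T : Scheme.{u}} {X Y : Over S} (f : X ⟶ Y) (ψ : T ⟶ S) :
    IsPullback (pullback.fst X.hom ψ) ((Over.pullback ψ).map f).left f.left (pullback.fst Y.hom ψ) := by
  refine IsPullback.of_bot ?_ (by simp) (IsPullback.of_hasPullback Y.hom ψ)
  rw [show ((Over.pullback ψ).map f).left ≫ pullback.snd Y.hom ψ = pullback.snd X.hom ψ by simp, Over.w f]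
  exact IsPullback.of_hasPullback _ _

theorem overMap_iff (P : MorphismProperty Scheme.{u}) [P.RespectsIso] {S T : Scheme.{u}} {X Y : Over S}
    (f : X ⟶ Y) (ψ : T ⟶ S) : P ((Over.pullback ψ).map f).left ↔ P (bcHom f.left Y.hom ψ) :=
  AffLim.prop_iff_of_isPullback P (isPullback_overMap f ψ) (isPullback_bcHom f.left Y.hom ψ) (Iso.refl _) (by simp)

/-- A morphism which is a closed immersion over every field is a closed immersion over a nonempty open. -/
theorem exists_open_closedImmersion {S : Scheme.{u}} [IsIntegral S] {X Y : Over S} (f : X ⟶ Y)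
    [QuasiCompact X.hom] [QuasiSeparated X.hom] [QuasiCompact Y.hom] [QuasiSeparated Y.hom] [LocallyOfFiniteType f.left]
    (h : ∀ (K : Type u) [Field K] (ψ : Spec (CommRingCat.of K) ⟶ S),
      IsClosedImmersion ((Over.pullback ψ).map f).left) :
    ∃ U : S.Opens, (U : Set S).Nonempty ∧ ∀ {T : Scheme.{u}} (v : T ⟶ U.toScheme),
      IsClosedImmersion ((Over.pullback (v ≫ U.ι)).map f).left := by
  obtain ⟨U₀, hU₀, hs, -⟩ := exists_isAffineOpen_mem_and_subset (x := genericPoint S) (U := ⊤) trivial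
  haveI : Nonempty U₀.toScheme := ⟨⟨_, hs⟩⟩
  let R := Γ(S, U₀)
  let h₀ : Spec R ⟶ S := hU₀.fromSpec
  let g₀ := pullback.snd Y.hom h₀
  let f₀ := bcHom f.left Y.hom h₀
  haveI : LocallyOfFiniteType f₀ := MorphismProperty.of_isPullback (isPullback_bcHom f.left Y.hom h₀) ‹_›
  haveI : QuasiCompact (f.left ≫ Y.hom) := by rw [Over.w]; infer_instance
  haveI : QuasiSeparated (f.left ≫ Y.hom) := by rw [Over.w]; infer_instance
  haveI : CompactSpace ↥(pullback (f.left ≫ Y.hom) h₀) :=
    QuasiCompact.compactSpace_of_compactSpace (pullback.snd (f.left ≫ Y.hom) h₀)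
  haveI : CompactSpace ↥(pullback Y.hom h₀) := QuasiCompact.compactSpace_of_compactSpace (pullback.snd Y.hom h₀)
  haveI : QuasiSeparatedSpace ↥(pullback (f.left ≫ Y.hom) h₀) :=
    quasiSeparatedSpace_of_quasiSeparated (pullback.snd (f.left ≫ Y.hom) h₀)
  haveI : QuasiSeparatedSpace ↥(pullback Y.hom h₀) := quasiSeparatedSpace_of_quasiSeparated (pullback.snd Y.hom h₀)
  have htrans : ∀ {T : Scheme.{u}} (ψ : T ⟶ Spec R), IsClosedImmersion (bcHom f₀ g₀ ψ) ↔
      IsClosedImmersion ((Over.pullback (ψ ≫ h₀)).map f).left := fun {T} ψ => by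
    refine AffLim.prop_iff_of_isPullback @IsClosedImmersion
      ((isPullback_bcHom f₀ g₀ ψ).paste_horiz (isPullback_bcHom f.left Y.hom h₀))
      (isPullback_overMap f (ψ ≫ h₀)) (pullbackLeftPullbackSndIso Y.hom h₀ ψ) ?_
    rw [pullbackLeftPullbackSndIso_hom_fst]
  obtain ⟨r, hr, hcl⟩ := exists_closedImmersion_away (FractionRing R) f₀ g₀
    ((htrans _).2 (h (FractionRing R) _))
  let L := Localization.Away r
  haveI : Nontrivial L := (IsLocalization.injective L (powers_le_nonZeroDivisors_of_noZeroDivisors hr)).nontrivial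
  let u := Spec.map (CommRingCat.ofHom (algebraMap R L)) ≫ h₀
  haveI : IsOpenImmersion u := by
    haveI : IsOpenImmersion (Spec.map (CommRingCat.ofHom (algebraMap R L))) :=
      IsOpenImmersion.of_isLocalization r
    haveI : IsOpenImmersion h₀ := inferInstanceAs (IsOpenImmersion hU₀.fromSpec)
    infer_instance
  obtain ⟨q⟩ : Nonempty (PrimeSpectrum L) := inferInstance
  refine ⟨u.opensRange, ⟨u q, q, rfl⟩, fun {T} v => (overMap_iff @IsClosedImmersion f _).2 ?_⟩
  exact prop_bcHom @IsClosedImmersion f.left Y.hom u (v ≫ u.isoOpensRange.inv) _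
    (by rw [Category.assoc, Scheme.Hom.isoOpensRange_inv_comp])
    ((overMap_iff @IsClosedImmersion f u).1 ((htrans _).1 hcl))

/-- Charts with free coordinate rings. -/
theorem isEssentiallyFree_of_spec_charts {C : Type u} [CommRing C] {P : Scheme.{u}}
    (q : P ⟶ Spec (CommRingCat.of C))
    (hq : ∀ x : P, ∃ (B : Type u) (_ : CommRing B) (_ : Algebra C B) (c : Spec (CommRingCat.of B) ⟶ P),
      IsOpenImmersion c ∧ x ∈ Set.range c ∧ Module.Free C B ∧
      c ≫ q = Spec.map (CommRingCat.ofHom (algebraMap C B))) :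
    SGA3x.IsEssentiallyFree q := by
  intro s
  let O : (Spec (CommRingCat.of C)).Opens := ⊤
  haveI : IsAffine O.toScheme := isAffineOpen_top _
  let g : Spec (CommRingCat.of C) ⟶ O.toScheme := (Scheme.topIso _).inv
  have hg : g ≫ O.ι = 𝟙 _ := (Scheme.topIso _).inv_hom_id
  refine ⟨O, trivial, isAffineOpen_top _, _, inferInstance, g, inferInstance, inferInstance, fun x => ?_⟩
  obtain ⟨B, _, _, c, hc, hx, hfree, hcq⟩ := hq (pullback.fst q (g ≫ O.ι) x)
  haveI := hc
  haveI : IsIso (g ≫ O.ι) := by rw [hg]; infer_instance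
  let c' : Spec (CommRingCat.of B) ⟶ pullback q (g ≫ O.ι) := pullback.lift c (c ≫ q) (by rw [hg, Category.comp_id])
  haveI : IsOpenImmersion (c' ≫ pullback.fst q (g ≫ O.ι)) := by rw [pullback.lift_fst]; exact hc
  haveI : IsOpenImmersion c' := IsOpenImmersion.of_comp c' (pullback.fst q (g ≫ O.ι))
  have hxr : x ∈ c'.opensRange := by
    obtain ⟨b, hb⟩ := hx
    refine ⟨b, (pullback.fst q (g ≫ O.ι)).isOpenEmbedding.injective ?_⟩
    rw [← Scheme.Hom.comp_apply, pullback.lift_fst]
    exact hb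
  refine ⟨c'.opensRange, hxr, isAffineOpen_opensRange _, ?_⟩
  let e := c'.isoOpensRange
  have hV : c'.opensRange.ι ≫ pullback.snd q (g ≫ O.ι) = e.inv ≫ Spec.map (CommRingCat.ofHom (algebraMap C B)) := by
    rw [Iso.eq_inv_comp, Scheme.Hom.isoOpensRange_hom_ι_assoc, pullback.lift_snd, hcq]
  let ψ₁ : Γ(Spec (CommRingCat.of C), ⊤) ⟶ CommRingCat.of C := (Scheme.ΓSpecIso _).hom
  let ψ₂ : CommRingCat.of C ⟶ CommRingCat.of B := CommRingCat.ofHom (algebraMap C B)
  let ψ₃ : CommRingCat.of B ⟶ Γ(c'.opensRange.toScheme, ⊤) := (Scheme.ΓSpecIso _).inv ≫ e.inv.appTop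
  have hiso : ∀ {A B : CommRingCat.{u}} (ψ : A ⟶ B) [IsIso ψ],
      letI := ψ.hom.toAlgebra; Module.Projective A B := fun {A B} ψ _ => by
    letI := ψ.hom.toAlgebra
    exact Module.Projective.of_equiv (LinearEquiv.ofBijective (Algebra.linearMap A B)
      (ConcreteCategory.bijective_of_isIso ψ))
  haveI := hfree
  have h12 := projective_trans ψ₁ ψ₂ (ψ₁ ≫ ψ₂) rfl (hiso ψ₁) (projective_ofHom C B)
  have h := projective_trans (ψ₁ ≫ ψ₂) ψ₃ (c'.opensRange.ι ≫ pullback.snd q (g ≫ O.ι)).appTop (by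
    rw [hV, Scheme.Hom.comp_appTop]
    simp only [ψ₁, ψ₂, ψ₃, Category.assoc]
    rw [← Category.assoc (CommRingCat.ofHom _), ← Category.assoc, Scheme.ΓSpecIso_inv_naturality,
      ← Category.assoc, Iso.hom_inv_id, Category.id_comp]) h12 (hiso ψ₃)
  exact h

/-- Finite type schemes are essentially free over a nonempty open of an integral base. -/
theorem exists_open_essFree {S X : Scheme.{u}} [IsIntegral S] (f : X ⟶ S) [LocallyOfFiniteType f] [QuasiCompact f] :
    ∃ U : S.Opens, (U : Set S).Nonempty ∧ ∀ {T : Scheme.{u}} (v : T ⟶ U.toScheme),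
      SGA3x.IsEssentiallyFree (pullback.snd f (v ≫ U.ι)) := by
  classical
  obtain ⟨U₀, hU₀, hs, -⟩ := exists_isAffineOpen_mem_and_subset (x := genericPoint S) (U := ⊤) trivial
  haveI : Nonempty U₀.toScheme := ⟨⟨_, hs⟩⟩
  let R := Γ(S, U₀)
  have hcov : ((f ⁻¹ᵁ U₀ : X.Opens) : Set X) ⊆ ⋃ V : {V : X.affineOpens // V.1 ≤ f ⁻¹ᵁ U₀}, (V.1.1 : Set X) := by
    intro x hx
    obtain ⟨V, hV, hxV, hle⟩ := exists_isAffineOpen_mem_and_subset (x := x) (U := f ⁻¹ᵁ U₀) hx
    exact Set.mem_iUnion.2 ⟨⟨⟨V, hV⟩, hle⟩, hxV⟩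
  obtain ⟨F, hF⟩ := (QuasiCompact.isCompact_preimage (f := f) _ U₀.2 hU₀.isCompact).elim_finite_subcover _ (fun V => V.1.1.2) hcov
  letI : ∀ V : {V : X.affineOpens // V.1 ≤ f ⁻¹ᵁ U₀}, Algebra R Γ(X, V.1.1) := fun V =>
    (f.appLE U₀ V.1.1 V.2).hom.toAlgebra
  have hone : ∀ V : {V : X.affineOpens // V.1 ≤ f ⁻¹ᵁ U₀}, ∃ r : R, r ≠ 0 ∧
      Module.Free (Localization.Away r) (Localization.Away r ⊗[R] Γ(X, V.1.1)) := by
    intro V
    haveI : Algebra.FiniteType R Γ(X, V.1.1) := RingHom.finiteType_algebraMap.1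
      (HasRingHomProperty.appLE (P := @LocallyOfFiniteType) f ‹_› ⟨U₀, hU₀⟩ V.1 V.2)
    obtain ⟨r, hr, -, hfree, -⟩ := S0389.result (R := R) (S := Γ(X, V.1.1)) (M := Γ(X, V.1.1))
    exact ⟨r, hr, hfree⟩
  choose r hr hfree using hone
  let r₀ : R := ∏ V ∈ F, r V
  have hr₀ : r₀ ≠ 0 := Finset.prod_ne_zero_iff.2 fun V _ => hr V
  let L := Localization.Away r₀
  haveI : Nontrivial L := (IsLocalization.injective L (powers_le_nonZeroDivisors_of_noZeroDivisors hr₀)).nontrivial
  have hfree₀ : ∀ V ∈ F, Module.Free L (L ⊗[R] Γ(X, V.1.1)) := by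
    intro V hV
    have hu : IsUnit (algebraMap R L (r V)) := by
      have h := IsLocalization.Away.algebraMap_isUnit (S := L) r₀
      obtain ⟨c, hc⟩ : r V ∣ r₀ := Finset.dvd_prod_of_mem _ hV
      rw [show algebraMap R L r₀ = algebraMap R L (r V) * algebraMap R L c from
        (congrArg (algebraMap R L) hc).trans (map_mul _ _ _)] at h
      exact isUnit_of_mul_isUnit_left h
    letI : Algebra (Localization.Away (r V)) L := (IsLocalization.Away.lift (r V) hu).toAlgebra
    haveI : IsScalarTower R (Localization.Away (r V)) L :=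
      IsScalarTower.of_algebraMap_eq fun a => (IsLocalization.Away.lift_eq (r V) hu a).symm
    haveI := hfree V
    exact Module.Free.of_equiv (Algebra.TensorProduct.cancelBaseChange R (Localization.Away (r V)) L L
      Γ(X, V.1.1)).toLinearEquiv
  let u : Spec (CommRingCat.of L) ⟶ S := Spec.map (CommRingCat.ofHom (algebraMap R L)) ≫ hU₀.fromSpec
  haveI : IsOpenImmersion u := by
    haveI : IsOpenImmersion (Spec.map (CommRingCat.ofHom (algebraMap R L))) :=
      IsOpenImmersion.of_isLocalization r₀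
    infer_instance
  have hu : SGA3x.IsEssentiallyFree (pullback.snd f u) := by
    refine isEssentiallyFree_of_spec_charts _ fun x => ?_
    have hx : (pullback.fst f u :) x ∈ f ⁻¹ᵁ U₀ := by
      show f ((pullback.fst f u :) x) ∈ U₀
      rw [← Scheme.Hom.comp_apply, pullback.condition, Scheme.Hom.comp_apply]
      exact hU₀.range_fromSpec.le ⟨_, rfl⟩
    obtain ⟨V, hVF, hxV⟩ := Set.mem_iUnion₂.1 (hF hx)
    have hv : V.1.2.fromSpec ≫ f = Spec.map (CommRingCat.ofHom (algebraMap R Γ(X, V.1.1))) ≫ hU₀.fromSpec :=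
      (IsAffineOpen.SpecMap_appLE_fromSpec f hU₀ V.1.2 V.2).symm
    obtain ⟨y, hy⟩ := V.1.2.range_fromSpec.superset hxV
    obtain ⟨p, -, hp⟩ := Scheme.exists_preimage_of_isPullback
      (SmoothGrp.isPullback_chartMap f hU₀.fromSpec V.1.2.fromSpec hv L) y x hy
    exact ⟨L ⊗[R] Γ(X, V.1.1), inferInstance, inferInstance, SmoothWeil.chartMap f hU₀.fromSpec V.1.2.fromSpec hv L,
      SmoothWeil.isOpenImmersion_chartMap f hU₀.fromSpec V.1.2.fromSpec hv L, ⟨p, hp⟩, hfree₀ V hVF,
      SmoothWeil.chartMap_snd f hU₀.fromSpec V.1.2.fromSpec hv L⟩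
  obtain ⟨q⟩ : Nonempty (PrimeSpectrum L) := inferInstance
  refine ⟨u.opensRange, ⟨u q, q, rfl⟩, fun {T} v => ?_⟩
  let a := v ≫ u.isoOpensRange.inv
  have ha : a ≫ u = v ≫ u.opensRange.ι := by
    rw [Category.assoc, Scheme.Hom.isoOpensRange_inv_comp]
  rw [← ha]
  have h := isEssentiallyFree_iso_comp (pullbackLeftPullbackSndIso f u a).inv _
    (isEssentiallyFree_baseChange _ a hu)
  rwa [show (pullbackLeftPullbackSndIso f u a).inv ≫ pullback.snd (pullback.snd f u) a = pullback.snd f (a ≫ u) by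
    rw [Iso.inv_comp_eq, pullbackLeftPullbackSndIso_hom_snd]] at h

end Groth.Agent.GenericGrp

end
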