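import Groth.Agent.AffLim.DescendBaseChange
import Groth.Agent.AffLim.Presentation

/-!
Closed immersions spread out from the generic point of an integral scheme.
-/

set_option autoImplicit false
set_option backward.isDefEq.respectTransparency false
set_option backward.isDefEq.respectTransparency.types false
set_option linter.style.haveILetI false

universe u

open CategoryTheory CategoryTheory.Limits AlgebraicGeometry

noncomputable section

namespace Groth.Agent.GenericGrp

/-- The base change of a morphism over the base. -/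
abbrev bcHom {B T X Y : Scheme.{u}} (f : X ⟶ Y) (g : Y ⟶ B) (ψ : T ⟶ B) : pullback (f ≫ g) ψ ⟶ pullback g ψ :=
  pullback.map _ _ _ _ f (𝟙 _) (𝟙 _) (by simp) (by simp)

theorem isPullback_bcHom {B T X Y : Scheme.{u}} (f : X ⟶ Y) (g : Y ⟶ B) (ψ : T ⟶ B) :
    IsPullback (pullback.fst (f ≫ g) ψ) (bcHom f g ψ) f (pullback.fst g ψ) := by
  refine IsPullback.of_bot ?_ (by simp [bcHom]) (IsPullback.of_hasPullback g ψ)
  simpa [bcHom] using IsPullback.of_hasPullback (f ≫ g) ψ

/-- Properties stable under base change pass along refinements. -/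
theorem prop_bcHom (P : MorphismProperty Scheme.{u}) [P.IsStableUnderBaseChange] {B T T' X Y : Scheme.{u}}
    (f : X ⟶ Y) (g : Y ⟶ B) (ψ : T ⟶ B) (a : T' ⟶ T) (ψ' : T' ⟶ B) (ha : a ≫ ψ = ψ') (h : P (bcHom f g ψ)) :
    P (bcHom f g ψ') := by
  subst ha
  let mX : pullback (f ≫ g) (a ≫ ψ) ⟶ pullback (f ≫ g) ψ := pullback.map _ _ _ _ (𝟙 _) a (𝟙 _) (by simp) (by simp)
  let mY : pullback g (a ≫ ψ) ⟶ pullback g ψ := pullback.map _ _ _ _ (𝟙 _) a (𝟙 _) (by simp) (by simp)
  refine MorphismProperty.of_isPullback (IsPullback.of_right ?_ ?_ (isPullback_bcHom f g ψ) :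
    IsPullback mX (bcHom f g (a ≫ ψ)) (bcHom f g ψ) mY) h
  · simpa [mX, mY] using isPullback_bcHom f g (a ≫ ψ)
  · apply pullback.hom_ext <;> simp [bcHom, mX, mY]

variable {R : CommRingCat.{u}} (K : Type u) [Field K] [Algebra R K] [IsFractionRing R K]

theorem exists_closedImmersion_away [IsDomain R] {X Y : Scheme.{u}} [CompactSpace X] [QuasiSeparatedSpace X]
    [CompactSpace Y] [QuasiSeparatedSpace Y] (f : X ⟶ Y) [LocallyOfFiniteType f] (g : Y ⟶ Spec R)
    (h : IsClosedImmersion (bcHom f g (Spec.map (CommRingCat.ofHom (algebraMap R K))))) :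
    ∃ r : R, r ≠ 0 ∧
      IsClosedImmersion (bcHom f g (Spec.map (CommRingCat.ofHom (algebraMap R (Localization.Away r))))) := by
  classical
  let F : Finset K ⥤ CommRingCat.{u} :=
    { obj := fun s => CommRingCat.of (Algebra.adjoin R (s : Set K))
      map := fun {s t} h => CommRingCat.ofHom (Subalgebra.inclusion (Algebra.adjoin_mono
        (Finset.coe_subset.mpr h.le))).toRingHom
      map_id := fun s => by ext x; rfl
      map_comp := fun h h' => by ext x; rfl }
  let c : Cocone F :=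
    { pt := CommRingCat.of K
      ι :=
        { app := fun s => CommRingCat.ofHom (Algebra.adjoin R (s : Set K)).val.toRingHom
          naturality := fun s t h => by ext x; rfl } }
  obtain ⟨hc⟩ := AffLim.nonempty_isColimit_of_elementwise c
    (fun x => ⟨{x}, ⟨x, Algebra.subset_adjoin (by simp)⟩, rfl⟩)
    (fun S x y e => ⟨S, le_rfl, by rw [show x = y from Subtype.ext e]⟩)
  let D : (Finset K)ᵒᵖ ⥤ Scheme.{u} := F.op ⋙ Scheme.Spec
  let c' : Cone D := Scheme.Spec.mapCone c.op
  have hc' : IsLimit c' := isLimitOfPreserves Scheme.Spec hc.op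
  haveI : ∀ {i j : (Finset K)ᵒᵖ} (a : i ⟶ j), IsAffineHom (D.map a) := fun a =>
    inferInstanceAs (IsAffineHom (Spec.map _))
  let i₀ : (Finset K)ᵒᵖ := Opposite.op ∅
  let π : ∀ s : Finset K, R ⟶ F.obj s := fun s => CommRingCat.ofHom (algebraMap R (Algebra.adjoin R (s : Set K)))
  haveI : IsIso (π ∅) := by
    rw [ConcreteCategory.isIso_iff_bijective]
    refine ⟨fun a b hab => IsFractionRing.injective R K (congrArg Subtype.val hab), fun ⟨x, hx⟩ => ?_⟩
    rw [Finset.coe_empty, Algebra.adjoin_empty, Algebra.mem_bot] at hx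
    obtain ⟨a, ha⟩ := hx
    exact ⟨a, Subtype.ext ha⟩
  let p : D.obj i₀ ⟶ Spec R := Spec.map (π ∅)
  haveI : IsIso p := inferInstanceAs (IsIso (Spec.map (π ∅)))
  let g₀ : Y ⟶ D.obj i₀ := g ≫ inv p
  have hp : c'.π.app i₀ ≫ p = Spec.map (CommRingCat.ofHom (algebraMap R K)) := by
    show Spec.map (c.ι.app ∅) ≫ Spec.map (π ∅) = _
    rw [← Spec.map_comp]
    rfl
  let eY : pullback g₀ (c'.π.app i₀) ≅ pullback g (Spec.map (CommRingCat.ofHom (algebraMap R K))) :=
    asIso (pullback.map _ _ _ _ (𝟙 _) (𝟙 _) p (by simp [g₀]) (by simp [hp]))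
  have hlim : IsClosedImmersion (bcHom f g₀ (c'.π.app i₀)) :=
    (AffLim.prop_iff_of_isPullback @IsClosedImmersion (isPullback_bcHom f g₀ (c'.π.app i₀))
      (isPullback_bcHom f g (Spec.map (CommRingCat.ofHom (algebraMap R K)))) eY (by simp [eY])).2 h
  obtain ⟨k, hk⟩ := AffLim.exists_isClosedImmersion_baseChange D c' hc' i₀ f g₀
    (IsPullback.of_hasPullback g₀ (c'.π.app i₀)) (isPullback_bcHom f g₀ (c'.π.app i₀))
  have hk' : IsClosedImmersion (bcHom f g₀ (D.map k.hom)) := hk
  let s : Finset K := k.left.unop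
  obtain ⟨⟨r, hr⟩, hrs⟩ := IsLocalization.exist_integer_multiples (nonZeroDivisors R) s id
  have hr0 : r ≠ 0 := nonZeroDivisors.ne_zero hr
  let L := Localization.Away r
  have hu : IsUnit (algebraMap R K r) := isUnit_iff_ne_zero.2 fun e => hr0 (IsFractionRing.injective R K (by rw [e, map_zero]))
  let ψ : L →ₐ[R] K := IsLocalization.Away.liftAlgHom r (f := Algebra.ofId R K) hu
  have hψ : Function.Injective ψ := by
    rw [injective_iff_map_eq_zero]
    intro x hx
    obtain ⟨a, m, rfl⟩ := IsLocalization.exists_mk'_eq (Submonoid.powers r) x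
    have h1 := congrArg ψ (IsLocalization.mk'_spec L a m)
    rw [map_mul, hx, zero_mul, AlgHom.commutes] at h1
    rw [IsFractionRing.injective R K (h1.symm.trans (map_zero _).symm), IsLocalization.mk'_zero]
  have hle : Algebra.adjoin R (s : Set K) ≤ ψ.range := by
    refine Algebra.adjoin_le fun x hx => ?_
    obtain ⟨a, ha⟩ := hrs x hx
    refine ⟨IsLocalization.mk' L a (⟨r, Submonoid.mem_powers r⟩ : Submonoid.powers r), ?_⟩
    apply hu.mul_left_cancel
    have h1 := congrArg ψ (IsLocalization.mk'_spec L a (⟨r, Submonoid.mem_powers r⟩ : Submonoid.powers r))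
    rw [map_mul, AlgHom.commutes, AlgHom.commutes] at h1
    rw [mul_comm]
    refine h1.trans ?_
    simpa [Algebra.smul_def] using ha
  let φ : Algebra.adjoin R (s : Set K) →ₐ[R] L :=
    (AlgEquiv.ofInjective ψ hψ).symm.toAlgHom.comp (Subalgebra.inclusion hle)
  let a : Spec (CommRingCat.of L) ⟶ D.obj k.left := Spec.map (CommRingCat.ofHom φ.toRingHom)
  have ha : a ≫ D.map k.hom ≫ p = Spec.map (CommRingCat.ofHom (algebraMap R L)) := by
    show Spec.map (CommRingCat.ofHom φ.toRingHom) ≫ Spec.map (F.map k.hom.unop) ≫ Spec.map (π ∅) = _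
    rw [← Spec.map_comp, ← Spec.map_comp]
    congr 1
    ext x
    exact φ.commutes x
  refine ⟨r, hr0, prop_bcHom @IsClosedImmersion f g (D.map k.hom ≫ p) a _ ha ?_⟩
  let eY' : pullback g₀ (D.map k.hom) ≅ pullback g (D.map k.hom ≫ p) :=
    asIso (pullback.map _ _ _ _ (𝟙 _) (𝟙 _) p (by simp [g₀]) (by simp))
  exact (AffLim.prop_iff_of_isPullback @IsClosedImmersion (isPullback_bcHom f g₀ (D.map k.hom))
    (isPullback_bcHom f g (D.map k.hom ≫ p)) eY' (by simp [eY'])).1 hk'

end Groth.Agent.GenericGrp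

end
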